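import Groth.Agent.Lib.GrpSch.SepPoints
import Groth.Agent.Lib.JacCrit.Minimal
import Mathlib.RingTheory.Smooth.Flat
import Mathlib.RingTheory.Smooth.Locus
import Mathlib.RingTheory.Smooth.NoetherianDescent
import Mathlib.RingTheory.RingHom.StandardSmooth
import Mathlib.RingTheory.Filtration
import Mathlib.RingTheory.Localization.BaseChange
import Mathlib.LinearAlgebra.TensorProduct.Finiteness
import Mathlib.FieldTheory.SeparableClosure

/-!
# Étale slices of a smooth algebra detect elements
-/

set_option autoImplicit false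
universe u

open TensorProduct

namespace Groth.Agent.Lib.EtSlices.Alg

/-- `π : C → D` presents `D` as a quotient of a localisation `C[1/J]`. -/
def IsLocClosed {C D : Type u} [CommRing C] [CommRing D] (π : C →+* D) : Prop :=
  ∃ J : C, IsUnit (π J) ∧ ∀ d : D, ∃ (n : ℕ) (c : C), π J ^ n * d = π c

/-- Points with separable coordinates on a smooth algebra over a field. -/
theorem exists_point {κ B : Type u} [Field κ] [CommRing B] [Algebra κ B] [Algebra.Smooth κ B]
    {b : B} (hb : b ≠ 0) : ∃ χ : B →ₐ[κ] SeparableClosure κ, χ b ≠ 0 := by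
  let K := SeparableClosure κ
  have : IsReduced B := Groth.Agent.Lib.JacCrit.Minimal.isReduced_of_smooth (K := κ)
  let B' := Localization.Away b
  have : Nontrivial B' := by
    by_contra h
    rw [not_nontrivial_iff_subsingleton] at h
    obtain ⟨n, hn⟩ : (0 : B) ∈ Submonoid.powers b :=
      (IsLocalization.subsingleton_iff (S := B') (M := Submonoid.powers b)).1 h
    exact hb (eq_zero_of_pow_eq_zero hn)
  have : Algebra.Smooth B B' := Algebra.Smooth.of_isLocalization_Away b
  have : Algebra.Smooth κ B' := Algebra.Smooth.comp κ B B'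
  let E := K ⊗[κ] B'
  obtain ⟨S, hS, hstd⟩ := Algebra.Smooth.exists_span_eq_top_isStandardSmooth (R := K) (S := E)
  obtain ⟨q⟩ : Nonempty (PrimeSpectrum E) := inferInstance
  obtain ⟨f, hfS, hfq⟩ : ∃ f ∈ S, f ∉ q.asIdeal := by
    by_contra h
    push Not at h
    exact q.isPrime.ne_top (top_le_iff.1 (hS ▸ Ideal.span_le.2 h))
  let L := Localization.Away f
  have : Nontrivial L := by
    by_contra h
    rw [not_nontrivial_iff_subsingleton] at h
    obtain ⟨n, hn⟩ : (0 : E) ∈ Submonoid.powers f :=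
      (IsLocalization.subsingleton_iff (S := L) (M := Submonoid.powers f)).1 h
    exact hfq (q.isPrime.mem_of_pow_mem n ((show f ^ n = 0 from hn) ▸ zero_mem _))
  obtain ⟨n, g, hgC, hg⟩ := (RingHom.isStandardSmooth_algebraMap.mpr (hstd f hfS)).exists_etale_mvPolynomial
  let _ : Algebra (MvPolynomial (Fin n) K) L := g.toAlgebra
  have : IsScalarTower K (MvPolynomial (Fin n) K) L :=
    IsScalarTower.of_algebraMap_eq fun c => (RingHom.congr_fun hgC c).symm
  have : Algebra.Etale (MvPolynomial (Fin n) K) L := hg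
  obtain ⟨χ⟩ := Groth.Agent.Lib.GrpSch.exists_algHom_of_etale_mvPolynomial (k := K) (n := n) (B := L)
  let ρ : B' →ₐ[κ] K := ((χ.restrictScalars κ).comp (IsScalarTower.toAlgHom κ E L)).comp
    (Algebra.TensorProduct.includeRight : B' →ₐ[κ] E)
  have h1 : IsUnit (algebraMap B B' b) := IsLocalization.Away.algebraMap_isUnit b
  exact ⟨ρ.comp (IsScalarTower.toAlgHom κ B B'), (h1.map ρ).ne_zero⟩

/-- An element of the sum of a module killed by all functionals. -/
theorem exists_functional {R κ C V : Type u} [CommRing R] [Field κ] [Algebra R κ] [AddCommGroup C]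
    [Module R C] [AddCommGroup V] [Module R V] [Module κ V] [IsScalarTower R κ V] {x : C ⊗[R] V}
    (hx : x ≠ 0) : ∃ l : V →ₗ[R] κ, l.lTensor C x ≠ 0 := by
  classical
  let b := Module.Free.chooseBasis κ V
  let e : V ≃ₗ[R] (Module.Free.ChooseBasisIndex κ V →₀ κ) := b.repr.restrictScalars R
  let Φ := e.lTensor C ≪≫ₗ TensorProduct.finsuppRight R R C κ _
  obtain ⟨i, hi⟩ : ∃ i, Φ x i ≠ 0 := by
    by_contra h
    push Not at h
    exact hx (Φ.map_eq_zero_iff.1 (Finsupp.ext h))
  refine ⟨Finsupp.lapply i ∘ₗ e.toLinearMap, fun h0 => hi (Eq.trans ?_ h0)⟩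
  clear h0 hi hx
  induction x using TensorProduct.induction_on with
  | zero => simp
  | tmul c v => simp [Φ, TensorProduct.finsuppRight_apply_tmul_apply]
  | add a a' ha ha' => simp only [map_add, Finsupp.add_apply, ha, ha']

/-- Elements dying in the fibre at a prime. -/
theorem exists_smul_mem {R M : Type u} [CommRing R] [AddCommGroup M] [Module R M] (s : Ideal R)
    [s.IsPrime] (m : M) (hm : (1 : s.ResidueField) ⊗ₜ[R] m = 0) :
    ∃ w ∉ s, w • m ∈ s • (⊤ : Submodule R M) := by
  let f : (R ⧸ s) →ₗ[R] s.ResidueField := (IsScalarTower.toAlgHom R (R ⧸ s) s.ResidueField).toLinearMap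
  have : IsLocalizedModule s.primeCompl f := by
    refine ⟨fun w => ?_, fun y => ?_, fun {x y} h => ⟨1, ?_⟩⟩
    · have hw : algebraMap R s.ResidueField (w : R) ≠ 0 := fun h => w.2 (by
        rwa [← RingHom.mem_ker, Ideal.ker_algebraMap_residueField] at h)
      refine (Module.End.isUnit_iff _).2 ⟨fun a b hab => ?_, fun a => ⟨(algebraMap R s.ResidueField w)⁻¹ * a, ?_⟩⟩
      · simp only [Module.algebraMap_end_apply, Algebra.smul_def] at hab
        exact mul_left_cancel₀ hw hab
      · simp only [Module.algebraMap_end_apply, Algebra.smul_def]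
        rw [mul_inv_cancel_left₀ hw]
    · obtain ⟨⟨a, b⟩, hab⟩ := IsLocalization.surj (nonZeroDivisors (R ⧸ s)) y
      obtain ⟨w, hw⟩ := Ideal.Quotient.mk_surjective (b : R ⧸ s)
      refine ⟨⟨a, ⟨w, fun hws => nonZeroDivisors.coe_ne_zero b ?_⟩⟩, ?_⟩
      · rw [← hw]; exact Ideal.Quotient.eq_zero_iff_mem.2 hws
      · show (w : R) • y = algebraMap (R ⧸ s) s.ResidueField a
        rw [← hab, Algebra.smul_def, mul_comm, IsScalarTower.algebraMap_apply R (R ⧸ s) s.ResidueField]
        congr 2
    · simp only [one_smul]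
      exact IsFractionRing.injective (R ⧸ s) s.ResidueField h
  have hloc : IsLocalizedModule s.primeCompl (TensorProduct.AlgebraTensorModule.rTensor R M f) := inferInstance
  have h0 : TensorProduct.AlgebraTensorModule.rTensor R M f ((1 : R ⧸ s) ⊗ₜ[R] m) = 0 := by
    rw [← hm]
    simp [f]
  obtain ⟨⟨w, hw⟩, hwm⟩ := (IsLocalizedModule.eq_zero_iff s.primeCompl
    (TensorProduct.AlgebraTensorModule.rTensor R M f)).1 h0
  refine ⟨w, hw, ?_⟩
  have h1 := congrArg (TensorProduct.quotTensorEquivQuotSMul M s) hwm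
  rw [map_zero, ← Submodule.Quotient.mk_eq_zero] at *
  refine Eq.trans ?_ h1
  simp [Submonoid.smul_def]

variable {R C : Type u} [CommRing R] [CommRing C] [Algebra R C]

/-- A quotient of a localisation of an étale algebra over a polynomial ring is étale over the base
when it is cut out by one equation with invertible derivative in each coordinate. -/
theorem etale_slice {R C' D : Type u} [CommRing R] [CommRing C'] [Algebra R C'] [CommRing D] [Algebra R D]
    {d : ℕ} (ψ : MvPolynomial (Fin d) R →ₐ[R] C') (hψ : ψ.Etale) (H : Fin d → Polynomial R) (J : C')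
    (hJ : J = ∏ i, Polynomial.aeval (ψ (MvPolynomial.X i)) (Polynomial.derivative (H i)))
    (L : Type u) [CommRing L] [Algebra C' L] [Algebra R L] [IsScalarTower R C' L] [IsLocalization.Away J L]
    (π : L →ₐ[R] D) (hπ : Function.Surjective π)
    (hker : RingHom.ker π = Ideal.span (Set.range fun i =>
      algebraMap C' L (Polynomial.aeval (ψ (MvPolynomial.X i)) (H i)))) :
    Algebra.Etale R D := by
  algebraize [ψ.toRingHom]
  have hCe : Algebra.Etale (MvPolynomial (Fin d) R) C' := hψ
  have : IsScalarTower R (MvPolynomial (Fin d) R) C' :=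
    IsScalarTower.of_algebraMap_eq fun r => (ψ.commutes r).symm
  have : Algebra.FinitePresentation R C' := Algebra.FinitePresentation.trans R (MvPolynomial (Fin d) R) C'
  have : Algebra.FinitePresentation C' L := IsLocalization.Away.finitePresentation J
  have : Algebra.FinitePresentation R L := Algebra.FinitePresentation.trans R C' L
  refine ⟨?_, Algebra.FinitePresentation.of_surjective hπ (by
    change (RingHom.ker π).FG
    rw [hker]; exact Submodule.fg_span (Set.finite_range _))⟩
  rw [Algebra.FormallyEtale.iff_comp_bijective]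
  intro B _ _ I hI
  have hsq : ∀ a ∈ I, ∀ b ∈ I, a * b = 0 := fun a ha b hb => by
    have := Ideal.mul_mem_mul ha hb
    rwa [← sq, hI, Ideal.mem_bot] at this
  have hunit : ∀ a : B, IsUnit (Ideal.Quotient.mk I a) → IsUnit a := fun a ha => by
    obtain ⟨v, hv⟩ := ha
    obtain ⟨w, hw⟩ := Ideal.Quotient.mk_surjective ((↑v⁻¹ : B ⧸ I))
    have h1 : a * w - 1 ∈ I := by
      rw [← Ideal.Quotient.eq_zero_iff_mem, map_sub, map_mul, hw, ← hv, map_one, Units.mul_inv, sub_self]
    have h2 : IsNilpotent (a * w - 1) := ⟨2, by rw [sq]; exact hsq _ h1 _ h1⟩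
    have h3 := h2.isUnit_add_one
    rw [sub_add_cancel] at h3
    exact isUnit_of_mul_isUnit_left h3
  let toD : C' →ₐ[R] D := π.comp (IsScalarTower.toAlgHom R C' L)
  have hroot : ∀ (E : Type u) [CommRing E] [Algebra R E] (g : D →ₐ[R] E) (i : Fin d),
      Polynomial.aeval (g (toD (ψ (MvPolynomial.X i)))) (H i) = 0 := fun E _ _ g i => by
    rw [Polynomial.aeval_algHom_apply, Polynomial.aeval_algHom_apply]
    have hm : algebraMap C' L (Polynomial.aeval (ψ (MvPolynomial.X i)) (H i)) ∈ RingHom.ker π :=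
      hker ▸ Ideal.subset_span ⟨i, rfl⟩
    show g (π (algebraMap C' L _)) = 0
    rw [show π (algebraMap C' L (Polynomial.aeval (ψ (MvPolynomial.X i)) (H i))) = 0 from hm, map_zero]
  have hder : ∀ (E : Type u) [CommRing E] [Algebra R E] (g : D →ₐ[R] E) (i : Fin d),
      IsUnit (Polynomial.aeval (g (toD (ψ (MvPolynomial.X i)))) (Polynomial.derivative (H i))) :=
    fun E _ _ g i => by
    rw [Polynomial.aeval_algHom_apply, Polynomial.aeval_algHom_apply]
    refine IsUnit.map g (IsUnit.map π ?_)
    refine isUnit_of_dvd_unit (map_dvd (algebraMap C' L)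
      (hJ ▸ Finset.dvd_prod_of_mem _ (Finset.mem_univ i))) (IsLocalization.Away.algebraMap_isUnit J)
  refine ⟨fun g₁ g₂ h => ?_, fun g => ?_⟩
  · have hT : ∀ i, g₁ (toD (ψ (MvPolynomial.X i))) = g₂ (toD (ψ (MvPolynomial.X i))) := fun i => by
      set c₁ := g₁ (toD (ψ (MvPolynomial.X i))) with hc₁
      set c₂ := g₂ (toD (ψ (MvPolynomial.X i))) with hc₂
      have he : c₂ - c₁ ∈ I := by
        rw [← Ideal.Quotient.eq_zero_iff_mem, map_sub, sub_eq_zero]
        exact (AlgHom.congr_fun h _).symm
      have hb := Polynomial.binomExpansion ((H i).map (algebraMap R B)) c₁ (c₂ - c₁)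
      obtain ⟨k, hk⟩ := hb
      simp only [add_sub_cancel, Polynomial.eval_map, Polynomial.derivative_map] at hk
      rw [show Polynomial.eval₂ (algebraMap R B) c₂ (H i) = 0 from hroot B g₂ i,
        show Polynomial.eval₂ (algebraMap R B) c₁ (H i) = 0 from hroot B g₁ i, sq, hsq _ he _ he, mul_zero,
        zero_add, add_zero] at hk
      have := (hder B g₁ i).mul_right_eq_zero.1 hk.symm
      exact (sub_eq_zero.1 this).symm
    let _ : Algebra (MvPolynomial (Fin d) R) B := ((g₁.comp toD).comp ψ).toRingHom.toAlgebra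
    let G₁ : C' →ₐ[MvPolynomial (Fin d) R] B := { (g₁.comp toD).toRingHom with commutes' := fun _ => rfl }
    let G₂ : C' →ₐ[MvPolynomial (Fin d) R] B := { (g₂.comp toD).toRingHom with
      commutes' := fun p => AlgHom.congr_fun (show (g₂.comp toD).comp ψ = (g₁.comp toD).comp ψ from
        MvPolynomial.algHom_ext fun i => (hT i).symm) p }
    have hG : G₁ = G₂ := Algebra.FormallyUnramified.comp_injective I hI
      (AlgHom.ext fun c => AlgHom.congr_fun h (toD c))
    have hC : g₁.comp toD = g₂.comp toD := AlgHom.ext fun c => AlgHom.congr_fun hG c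
    have hL : (g₁.comp π).toRingHom = (g₂.comp π).toRingHom :=
      IsLocalization.ringHom_ext (Submonoid.powers J) (RingHom.ext fun c => AlgHom.congr_fun hC c)
    refine AlgHom.ext fun x => ?_
    obtain ⟨y, rfl⟩ := hπ x
    exact RingHom.congr_fun hL y
  · have hex : ∀ i, ∃ c : B, Ideal.Quotient.mk I c = g (toD (ψ (MvPolynomial.X i))) ∧
        Polynomial.aeval c (H i) = 0 := fun i => by
      obtain ⟨c, hc⟩ := Ideal.Quotient.mk_surjective (g (toD (ψ (MvPolynomial.X i))))
      have hcI : Polynomial.aeval c (H i) ∈ I := by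
        rw [← Ideal.Quotient.eq_zero_iff_mem, ← Ideal.Quotient.mkₐ_eq_mk R, ← Polynomial.aeval_algHom_apply]
        show Polynomial.aeval (Ideal.Quotient.mk I c) (H i) = 0
        rw [hc]; exact hroot _ g i
      obtain ⟨v, hv⟩ := hunit (Polynomial.aeval c (Polynomial.derivative (H i))) (by
        rw [← Ideal.Quotient.mkₐ_eq_mk R, ← Polynomial.aeval_algHom_apply]
        show IsUnit (Polynomial.aeval (Ideal.Quotient.mk I c) _)
        rw [hc]; exact hder _ g i)
      set e : B := -(↑v⁻¹ * Polynomial.aeval c (H i))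
      have he : e ∈ I := I.neg_mem (I.mul_mem_left _ hcI)
      refine ⟨c + e, by rw [map_add, Ideal.Quotient.eq_zero_iff_mem.2 he, add_zero, hc], ?_⟩
      obtain ⟨k, hk⟩ := Polynomial.binomExpansion ((H i).map (algebraMap R B)) c e
      simp only [Polynomial.eval_map, Polynomial.derivative_map] at hk
      rw [Polynomial.aeval_def, hk, ← Polynomial.aeval_def, ← Polynomial.aeval_def, sq, hsq _ he _ he,
        mul_zero, add_zero, ← hv]
      simp [e]
    choose c hc hc0 using hex
    let Φ : MvPolynomial (Fin d) R →ₐ[R] B := MvPolynomial.aeval c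
    let _ : Algebra (MvPolynomial (Fin d) R) B := Φ.toRingHom.toAlgebra
    let G : C' →ₐ[MvPolynomial (Fin d) R] B ⧸ I := { (g.comp toD).toRingHom with
      commutes' := fun p => AlgHom.congr_fun (show (g.comp toD).comp ψ = (Ideal.Quotient.mkₐ R I).comp Φ from
        MvPolynomial.algHom_ext fun i => by simp [Φ, hc]) p }
    obtain ⟨l, hl⟩ := Algebra.FormallySmooth.comp_surjective (MvPolynomial (Fin d) R) C' I hI G
    have hlc : ∀ x, Ideal.Quotient.mk I (l x) = g (toD x) := fun x => AlgHom.congr_fun hl x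
    let l' : C' →ₐ[R] B := AlgHom.mk' l.toRingHom fun r x => by
      show l (r • x) = r • l x
      rw [Algebra.smul_def, Algebra.smul_def, map_mul]
      congr 1
      rw [← ψ.commutes r, show ψ (algebraMap R _ r) = algebraMap (MvPolynomial (Fin d) R) C' _ from rfl,
        l.commutes]
      exact Φ.commutes r
    have hJu : IsUnit (l J) := hunit _ (by
      rw [hlc]
      exact (IsLocalization.Away.algebraMap_isUnit J).map (g.comp π))
    let lL : L →+* B := IsLocalization.Away.lift J (g := l.toRingHom) hJu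
    have hlL : ∀ x, lL (algebraMap C' L x) = l x := fun x => IsLocalization.Away.lift_eq J hJu x
    have hkill : ∀ z ∈ RingHom.ker π, lL z = 0 := fun z hz => by
      rw [hker] at hz
      refine (Ideal.span_le (I := RingHom.ker lL)).2 ?_ hz
      rintro _ ⟨i, rfl⟩
      rw [SetLike.mem_coe, RingHom.mem_ker, hlL, show l (Polynomial.aeval (ψ (MvPolynomial.X i)) (H i)) =
        l' (Polynomial.aeval (ψ (MvPolynomial.X i)) (H i)) from rfl, ← Polynomial.aeval_algHom_apply,
        show l' (ψ (MvPolynomial.X i)) = Φ (MvPolynomial.X i) from l.commutes _]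
      simp [Φ, hc0]
    let lR : L →ₐ[R] B := AlgHom.mk' lL fun r x => by
      rw [Algebra.smul_def, Algebra.smul_def, map_mul, IsScalarTower.algebraMap_apply R C' L, hlL]
      exact congrArg (· * lL x) (l'.commutes r)
    refine ⟨AlgHom.liftOfSurjective π hπ lR hkill, AlgHom.ext fun x => ?_⟩
    obtain ⟨y, rfl⟩ := hπ x
    show Ideal.Quotient.mk I (AlgHom.liftOfSurjective π hπ lR hkill (π y)) = g (π y)
    rw [AlgHom.liftOfSurjective_apply]
    exact RingHom.congr_fun (IsLocalization.ringHom_ext (Submonoid.powers J) (S := L)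
      (j := (Ideal.Quotient.mk I).comp lL) (k := (g.comp π).toRingHom)
      (RingHom.ext fun c => (congrArg (Ideal.Quotient.mk I) (hlL c)).trans (hlc c))) y

/-- The étale slice through a point with separable coordinates. -/
theorem exists_slice {κ K : Type u} [Field κ] [Field K] [Algebra κ K] [Algebra.IsSeparable κ K]
    [Algebra R κ] [Algebra R K] [IsScalarTower R κ K] (s : Ideal R) [s.IsPrime] [Algebra (R ⧸ s) κ]
    [IsScalarTower R (R ⧸ s) κ] [IsFractionRing (R ⧸ s) κ] {C' : Type u} [CommRing C'] [Algebra R C']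
    {d : ℕ} (ψ : MvPolynomial (Fin d) R →ₐ[R] C') (hψ : ψ.Etale) (φ : C' →ₐ[R] K) :
    ∃ (D : Type u) (_ : CommRing D) (_ : Algebra R D) (π : C' →ₐ[R] D) (χ : D →ₐ[R] K),
      Algebra.Etale R D ∧ IsLocClosed π.toRingHom ∧ χ.comp π = φ := by
  classical
  have hH : ∀ x : K, ∃ H : Polynomial R, Polynomial.aeval x H = 0 ∧
      Polynomial.aeval x (Polynomial.derivative H) ≠ 0 := fun x => by
    obtain ⟨b, hb⟩ := IsLocalization.integerNormalization_map_to_map (nonZeroDivisors (R ⧸ s)) (minpoly κ x)
    obtain ⟨H, hHm⟩ := Polynomial.map_surjective (Ideal.Quotient.mk s) Ideal.Quotient.mk_surjective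
      (IsLocalization.integerNormalization (nonZeroDivisors (R ⧸ s)) (minpoly κ x))
    have e : H.map (algebraMap R κ) = algebraMap (R ⧸ s) κ b • minpoly κ x := by
      rw [algebraMap_smul, ← hb, ← hHm, Polynomial.map_map, IsScalarTower.algebraMap_eq R (R ⧸ s) κ]
      rfl
    have hb0 : algebraMap (R ⧸ s) κ b ≠ 0 :=
      IsFractionRing.to_map_ne_zero_of_mem_nonZeroDivisors b.2
    refine ⟨H, ?_, ?_⟩
    · rw [← Polynomial.aeval_map_algebraMap κ, e, map_smul, minpoly.aeval, smul_zero]
    · rw [← Polynomial.aeval_map_algebraMap κ, ← Polynomial.derivative_map, e,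
        Polynomial.derivative_smul, map_smul]
      exact smul_ne_zero hb0 ((Algebra.IsSeparable.isSeparable κ x).aeval_derivative_ne_zero (minpoly.aeval κ x))
  choose H hH0 hH1 using fun i => hH (φ (ψ (MvPolynomial.X i)))
  let J : C' := ∏ i, Polynomial.aeval (ψ (MvPolynomial.X i)) (Polynomial.derivative (H i))
  let L := Localization.Away J
  let I : Ideal L := Ideal.span (Set.range fun i =>
      algebraMap C' L (Polynomial.aeval (ψ (MvPolynomial.X i)) (H i)))
  have hJ : IsUnit (φ J) := by
    rw [isUnit_iff_ne_zero, map_prod, Finset.prod_ne_zero_iff]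
    intro i _
    rw [← Polynomial.aeval_algHom_apply]
    exact hH1 i
  let φL : L →ₐ[R] K := IsLocalization.liftAlgHom (M := Submonoid.powers J) (f := φ) (by
    rintro ⟨_, n, rfl⟩; show IsUnit (φ (J ^ n)); rw [map_pow]; exact hJ.pow n)
  have hφL : ∀ x, φL (algebraMap C' L x) = φ x := fun x => by simp [φL]
  have hI : ∀ z ∈ I, φL z = 0 := fun z hz => by
    refine (Ideal.span_le (I := RingHom.ker φL)).2 ?_ hz
    rintro _ ⟨i, rfl⟩
    rw [SetLike.mem_coe, RingHom.mem_ker, hφL, ← Polynomial.aeval_algHom_apply]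
    exact hH0 i
  refine ⟨L ⧸ I, inferInstance, inferInstance, (Ideal.Quotient.mkₐ R I).comp (IsScalarTower.toAlgHom R C' L),
    Ideal.Quotient.liftₐ I φL hI,
    etale_slice ψ hψ H J rfl L (Ideal.Quotient.mkₐ R I) (Ideal.Quotient.mkₐ_surjective R I)
      (Ideal.Quotient.mkₐ_ker R I), ⟨J, ?_, fun z => ?_⟩, AlgHom.ext hφL⟩
  · exact (IsLocalization.Away.algebraMap_isUnit J).map (Ideal.Quotient.mkₐ R I)
  · obtain ⟨z, rfl⟩ := Ideal.Quotient.mk_surjective z
    obtain ⟨n, c, hc⟩ := IsLocalization.Away.surj J z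
    refine ⟨n, c, ?_⟩
    show Ideal.Quotient.mk I (algebraMap C' L J) ^ n * Ideal.Quotient.mk I z = Ideal.Quotient.mk I (algebraMap C' L c)
    rw [← hc, map_mul, map_pow, mul_comm]

theorem isLocClosed_of_localization {C L D : Type u} [CommRing C] [CommRing L] [CommRing D] (g : C)
    [Algebra C L] [IsLocalization.Away g L] (π : L →+* D) (h : IsLocClosed π) :
    IsLocClosed (π.comp (algebraMap C L)) := by
  obtain ⟨J, hJ, hsurj⟩ := h
  obtain ⟨k, J₀, hJ₀⟩ := IsLocalization.Away.surj g J
  have hg : IsUnit (π (algebraMap C L g)) := (IsLocalization.Away.algebraMap_isUnit g).map π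
  have hJ₀' : π J * π (algebraMap C L g) ^ k = π (algebraMap C L J₀) := by rw [← map_pow, ← map_mul, hJ₀]
  refine ⟨g * J₀, ?_, fun d => ?_⟩
  · rw [map_mul, RingHom.comp_apply, RingHom.comp_apply, ← hJ₀']
    exact hg.mul (hJ.mul (hg.pow k))
  · obtain ⟨n, x, hx⟩ := hsurj d
    obtain ⟨m, c, hc⟩ := IsLocalization.Away.surj g x
    refine ⟨n + m, c * g ^ (n + k * n) * J₀ ^ m, ?_⟩
    have hc' : π x * π (algebraMap C L g) ^ m = π (algebraMap C L c) := by rw [← map_pow, ← map_mul, hc]
    simp only [map_mul, map_pow, RingHom.comp_apply, ← hJ₀', ← hc', ← hx]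
    ring

/-- Flatness of étale slices separates submodules. -/
theorem rTensor_eq_zero_of_incl {R C D : Type u} [CommRing R] [CommRing C] [Algebra R C] [CommRing D]
    [Algebra R D] [Module.Flat R D] (π : C →ₐ[R] D) {N : Type u} [AddCommGroup N] [Module R N]
    (N' : Submodule R N) (z : C ⊗[R] N') (h : π.toLinearMap.rTensor N (N'.subtype.lTensor C z) = 0) :
    π.toLinearMap.rTensor N' z = 0 := by
  refine Module.Flat.lTensor_preserves_injective_linearMap N'.subtype N'.injective_subtype ?_
  rw [map_zero, ← h]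
  simp only [← LinearMap.comp_apply]
  congr 1
  ext; simp

/-- Étale slices detect elements of `C ⊗ N`, Noetherian case. -/
theorem eq_zero_of_noetherian [IsNoetherianRing R] [Algebra.Smooth R C] {N : Type u} [AddCommGroup N]
    [Module R N] [Module.Finite R N] (t : C ⊗[R] N)
    (ht : ∀ (D : Type u) [CommRing D] [Algebra R D] (π : C →ₐ[R] D), Algebra.Etale R D →
      IsLocClosed π.toRingHom → π.toLinearMap.rTensor N t = 0) : t = 0 := by
  classical
  by_contra ht0
  have : IsNoetherianRing C := Algebra.FiniteType.isNoetherianRing R C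
  obtain ⟨q, hq, hqle⟩ := Ideal.exists_le_maximal (LinearMap.ker (LinearMap.toSpanSingleton C (C ⊗[R] N) t))
    (fun h => ht0 ((one_smul C t).symm.trans (h.ge (Submodule.mem_top (x := (1 : C))))))
  let s : Ideal R := q.comap (algebraMap R C)
  let J : Ideal C := s.map (algebraMap R C)
  have hJq : J ≤ q := Ideal.map_comap_le
  -- the filtration pieces
  let F : ℕ → Submodule R (C ⊗[R] N) := fun n =>
    LinearMap.range ((s ^ n • ⊤ : Submodule R N).subtype.lTensor C)
  have hFsmul : ∀ n (c : C) m, m ∈ F n → c • m ∈ F n := by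
    rintro n c _ ⟨z, rfl⟩
    refine ⟨c • z, ?_⟩
    induction z using TensorProduct.induction_on with
    | zero => simp
    | tmul a b => simp [TensorProduct.smul_tmul']
    | add x y hx hy => simp [smul_add, hx, hy]
  let FC : ℕ → Submodule C (C ⊗[R] N) := fun n =>
    { (F n).toAddSubmonoid with smul_mem' := fun c m hm => hFsmul n c m hm }
  have hFC : ∀ n, J ^ n • (⊤ : Submodule C (C ⊗[R] N)) ≤ FC n := fun n => by
    rw [show J ^ n = (s ^ n).map (algebraMap R C) from (Ideal.map_pow _ s n).symm]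
    rw [Ideal.map, ← Ideal.submodule_span_eq, Submodule.span_smul_eq, Submodule.set_smul_le_iff]
    rintro _ m ⟨r, hr, rfl⟩ -
    rw [algebraMap_smul]
    induction m using TensorProduct.induction_on with
    | zero => simp
    | tmul a b =>
      exact ⟨a ⊗ₜ ⟨r • b, Submodule.smul_mem_smul hr Submodule.mem_top⟩, by simp⟩
    | add x y hx hy => rw [smul_add]; exact add_mem hx hy
  have hkill : ∀ e ∉ q, e • t ≠ 0 := fun e he h => he (hqle h)
  -- Artin-Rees bounds the order of vanishing
  have hex : ∃ n, ∀ e ∉ q, e • t ∉ F n := by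
    by_contra hall
    push Not at hall
    obtain ⟨k, hk⟩ := J.exists_pow_inf_eq_pow_smul (C ∙ t)
    obtain ⟨e, he, heF⟩ := hall (k + 1)
    have hle : FC (k + 1) ≤ J ^ (k + 1) • (⊤ : Submodule C (C ⊗[R] N)) := by
      rintro _ ⟨z, rfl⟩
      induction z using TensorProduct.induction_on with
      | zero => simp
      | tmul a b =>
        obtain ⟨b, hb⟩ := b
        show a ⊗ₜ[R] b ∈ _
        refine Submodule.smul_induction_on (p := fun x => a ⊗ₜ[R] x ∈ _) hb (fun r hr x _ => ?_) fun x y hx hy => ?_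
        · rw [TensorProduct.tmul_smul, ← algebraMap_smul C r]
          exact Submodule.smul_mem_smul (by
            rw [show J ^ (k + 1) = (s ^ (k + 1)).map (algebraMap R C) from (Ideal.map_pow _ s _).symm]
            exact Ideal.mem_map_of_mem _ hr) Submodule.mem_top
        · rw [TensorProduct.tmul_add]; exact add_mem hx hy
      | add x y hx hy => rw [map_add]; exact add_mem hx hy
    have h1 : e • t ∈ J ^ (k + 1) • (⊤ : Submodule C (C ⊗[R] N)) ⊓ (C ∙ t) :=
      ⟨hle heF, Submodule.mem_span_singleton.2 ⟨e, rfl⟩⟩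
    rw [hk (k + 1) (Nat.le_succ k)] at h1
    have h2 := Submodule.smul_mono (le_refl (J ^ (k + 1 - k))) (inf_le_right (a := J ^ k • (⊤ : Submodule C (C ⊗[R] N)))) h1
    rw [Nat.add_sub_cancel_left, pow_one, Submodule.mem_smul_span_singleton] at h2
    obtain ⟨j, hj, hjt⟩ := h2
    exact hkill (e - j) (fun h => he (by simpa using q.add_mem h (hJq hj))) ((sub_smul e j t).trans (sub_eq_zero.2 hjt.symm))
  obtain ⟨e₀, he₀, n, ⟨z, hz⟩, hn⟩ : ∃ e₀ ∉ q, ∃ n, e₀ • t ∈ F n ∧ ∀ e ∉ q, e • t ∉ F (n + 1) := by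
    have h0 : ∀ e : C, e • t ∈ F 0 := fun e => hFC 0 (by rw [pow_zero, Ideal.one_eq_top, Submodule.top_smul]; trivial)
    obtain ⟨N0, hN0⟩ : ∃ m, Nat.find hex = m + 1 := ⟨Nat.find hex - 1, by
      have : Nat.find hex ≠ 0 := fun h => (Nat.find_spec hex) 1 (fun h1 => hq.ne_top ((Ideal.eq_top_iff_one _).2 h1)) (h ▸ h0 1)
      omega⟩
    have := Nat.find_min hex (show N0 < Nat.find hex by omega)
    push Not at this
    obtain ⟨e, he, heF⟩ := this
    exact ⟨e, he, N0, heF, fun e' he' => hN0 ▸ Nat.find_spec hex e' he'⟩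
  -- a chart at `q`
  obtain ⟨S, hS, hstd⟩ := Algebra.Smooth.exists_span_eq_top_isStandardSmooth (R := R) (S := C)
  obtain ⟨g, hgS, hgq⟩ : ∃ g ∈ S, g ∉ q := by
    by_contra h
    push Not at h
    exact hq.ne_top (top_le_iff.1 (hS ▸ Ideal.span_le.2 h))
  -- the coefficient
  let κ := s.ResidueField
  let N' : Submodule R N := s ^ n • ⊤
  let M' := C ⊗[R] N'
  have hne : (1 : κ) ⊗ₜ[R] (g • z) ≠ 0 := by
    intro h0
    obtain ⟨w, hw, hwz⟩ := exists_smul_mem s (g • z) h0
    have hmem : ∀ y ∈ s • (⊤ : Submodule R M'), N'.subtype.lTensor C y ∈ F (n + 1) := fun y hy => by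
      refine Submodule.smul_induction_on (p := fun y => N'.subtype.lTensor C y ∈ F (n + 1)) hy
        (fun r hr y hy' => ?_) fun x y hx hy => ?_
      · clear hy'
        induction y using TensorProduct.induction_on with
        | zero => simp
        | tmul a b =>
          refine ⟨a ⊗ₜ ⟨r • (b : N), ?_⟩, by simp⟩
          rw [pow_succ', Submodule.mul_smul]
          exact Submodule.smul_mem_smul hr b.2
        | add x y hx hy => rw [smul_add, map_add]; exact add_mem hx hy
      · rw [map_add]; exact add_mem hx hy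
    refine hn (algebraMap R C w * g * e₀) (fun h => ?_) ?_
    · rcases hq.isPrime.mem_or_mem h with h | h
      · rcases hq.isPrime.mem_or_mem h with h | h
        · exact hw h
        · exact hgq h
      · exact he₀ h
    · rw [mul_smul, ← hz, mul_smul, algebraMap_smul]
      convert hmem _ hwz using 1
      rw [map_smul]
      congr 1
      clear hz hwz h0
      induction z using TensorProduct.induction_on with
      | zero => simp
      | tmul a b => simp [TensorProduct.smul_tmul']
      | add x y hx hy => simp [smul_add, hx, hy]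
  let L₀ : C ⊗[R] (κ ⊗[R] N') ≃ₗ[R] κ ⊗[R] M' := TensorProduct.leftComm R C κ N'
  have hne' : L₀.symm ((1 : κ) ⊗ₜ[R] (g • z)) ≠ 0 := fun h => hne ((L₀.symm.map_eq_zero_iff).1 h)
  obtain ⟨l, hl⟩ := exists_functional (R := R) (κ := κ) hne'
  let ν : N' →ₗ[R] κ := l ∘ₗ TensorProduct.mk R κ N' 1
  have hν : ν.lTensor C (g • z) = l.lTensor C (L₀.symm ((1 : κ) ⊗ₜ[R] (g • z))) := by
    generalize g • z = y
    induction y using TensorProduct.induction_on with
    | zero => simp
    | tmul a b => rfl
    | add x y hx hy => simp only [map_add, TensorProduct.tmul_add, hx, hy]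
  rw [← hν] at hl
  let b₀ : κ ⊗[R] C := TensorProduct.comm R C κ (ν.lTensor C z)
  have hb : ((1 : κ) ⊗ₜ[R] g) * b₀ ≠ 0 := by
    intro h0
    refine hl ((TensorProduct.comm R C κ).injective ?_)
    rw [map_zero, ← h0]
    show _ = _ * TensorProduct.comm R C κ (ν.lTensor C z)
    generalize z = y
    induction y using TensorProduct.induction_on with
    | zero => simp
    | tmul a b => simp [TensorProduct.smul_tmul']
    | add x y hx hy => simp only [smul_add, map_add, mul_add, hx, hy]
  obtain ⟨χ, hχ⟩ := exists_point (κ := κ) hb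
  -- the slice through the point
  let φ : C →ₐ[R] SeparableClosure κ :=
    (χ.restrictScalars R).comp (Algebra.TensorProduct.includeRight : C →ₐ[R] κ ⊗[R] C)
  rw [map_mul, mul_ne_zero_iff] at hχ
  have hgu : IsUnit (φ g) := isUnit_iff_ne_zero.2 hχ.1
  let Cg := Localization.Away g
  let φg : Cg →ₐ[R] SeparableClosure κ := IsLocalization.liftAlgHom (M := Submonoid.powers g) (f := φ) (by
    rintro ⟨_, m, rfl⟩; show IsUnit (φ (g ^ m)); rw [map_pow]; exact hgu.pow m)
  obtain ⟨m, ψ, hψC, hψ⟩ := (RingHom.isStandardSmooth_algebraMap.mpr (hstd g hgS)).exists_etale_mvPolynomial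
  let ψ' : MvPolynomial (Fin m) R →ₐ[R] Cg := { ψ with commutes' := fun x => RingHom.congr_fun hψC x }
  obtain ⟨D, _, _, π, χD, hD, hπ, hcomp⟩ := exists_slice (κ := κ) s ψ' hψ φg
  have : Algebra.Smooth R D := inferInstance
  let π' : C →ₐ[R] D := π.comp (IsScalarTower.toAlgHom R C Cg)
  have hker : π'.toLinearMap.rTensor N t = 0 := ht D π' hD (isLocClosed_of_localization g π.toRingHom hπ)
  have hsmul : ∀ (c : C) (x : C ⊗[R] N), π'.toLinearMap.rTensor N (c • x) = π' c • π'.toLinearMap.rTensor N x := by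
    intro c x
    induction x using TensorProduct.induction_on with
    | zero => simp
    | tmul a b => simp [TensorProduct.smul_tmul']
    | add x y hx hy => simp [smul_add, hx, hy]
  have hz0 : π'.toLinearMap.rTensor N' z = 0 :=
    rTensor_eq_zero_of_incl π' N' z (by rw [hz, hsmul, hker, smul_zero])
  apply hχ.2
  have hfac : ∀ y : M', χ (TensorProduct.comm R C κ (ν.lTensor C y)) =
      TensorProduct.lift ((LinearMap.mul R (SeparableClosure κ)).compl₁₂ χD.toLinearMap
        ((IsScalarTower.toAlgHom R κ (SeparableClosure κ)).toLinearMap ∘ₗ ν)) (π'.toLinearMap.rTensor N' y) := by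
    intro y
    induction y using TensorProduct.induction_on with
    | zero => simp
    | tmul a b =>
      have e1 : χD (π' a) = φ a := (AlgHom.congr_fun hcomp (algebraMap C Cg a)).trans (by simp [φg])
      simp only [LinearMap.lTensor_tmul, TensorProduct.comm_tmul, LinearMap.rTensor_tmul, AlgHom.toLinearMap_apply,
        TensorProduct.lift.tmul, LinearMap.compl₁₂_apply, LinearMap.mul_apply', LinearMap.comp_apply, e1]
      rw [show (ν b) ⊗ₜ[R] a = algebraMap κ (κ ⊗[R] C) (ν b) * ((1 : κ) ⊗ₜ[R] a) by simp, map_mul, AlgHom.commutes, mul_comm]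
      rfl
    | add x y hx hy => simp only [map_add, hx, hy]
  rw [hfac z, hz0, map_zero]

/-- Étale slices detect elements of a smooth algebra. -/
theorem eq_zero [Algebra.Smooth R C] (t : C)
    (ht : ∀ (D : Type u) [CommRing D] [Algebra R D] (π : C →ₐ[R] D), Algebra.Etale R D →
      IsLocClosed π.toRingHom → π t = 0) : t = 0 := by
  classical
  obtain ⟨R₀, C₀, _, _, hR₀, _, ⟨e⟩⟩ := Algebra.Smooth.exists_subalgebra_fg (R := ℤ) (A := R) (B := C)
  have : Algebra.FiniteType ℤ R₀ := R₀.fg_iff_finiteType.1 hR₀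
  have : IsNoetherianRing R₀ := Algebra.FiniteType.isNoetherianRing ℤ R₀
  let t' : C₀ ⊗[R₀] R := TensorProduct.comm R₀ R C₀ (e t)
  obtain ⟨N, hN, hsub⟩ := TensorProduct.exists_finite_submodule_right_of_setFinite {t'} (Set.finite_singleton _)
  obtain ⟨z, hz⟩ := hsub rfl
  suffices z = 0 by
    refine e.injective ((TensorProduct.comm R₀ R C₀).injective ?_)
    rw [map_zero, map_zero]
    show t' = 0
    rw [← hz, this, map_zero]
  refine eq_zero_of_noetherian z fun D₀ _ _ π₀ hD₀ hπ₀ => ?_
  let πR : R ⊗[R₀] C₀ →ₐ[R] R ⊗[R₀] D₀ := Algebra.TensorProduct.map (AlgHom.id R R) π₀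
  let π : C →ₐ[R] R ⊗[R₀] D₀ := πR.comp e.toAlgHom
  obtain ⟨J, hJ, hsurj⟩ := hπ₀
  have h0 : π t = 0 := by
    refine ht _ π inferInstance ⟨e.symm ((1 : R) ⊗ₜ J), ?_, fun d => ?_⟩
    · show IsUnit (πR (e (e.symm ((1 : R) ⊗ₜ J))))
      rw [e.apply_symm_apply]
      exact hJ.map (Algebra.TensorProduct.includeRight : D₀ →ₐ[R₀] R ⊗[R₀] D₀)
    · have hπJ : π (e.symm ((1 : R) ⊗ₜ J)) = (1 : R) ⊗ₜ π₀ J := by
        show πR (e (e.symm _)) = _
        rw [e.apply_symm_apply]; rfl
      show ∃ n c, π (e.symm ((1 : R) ⊗ₜ J)) ^ n * d = π c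
      rw [hπJ]
      suffices H : ∃ n : ℕ, ∃ y : R ⊗[R₀] C₀, ((1 : R) ⊗ₜ[R₀] π₀ J) ^ n * d = πR y by
        obtain ⟨n, y, hy⟩ := H
        exact ⟨n, e.symm y, hy.trans (congrArg πR (e.apply_symm_apply y)).symm⟩
      induction d using TensorProduct.induction_on with
      | zero => exact ⟨0, 0, by simp⟩
      | tmul a b =>
        obtain ⟨n, c, hc⟩ := hsurj b
        refine ⟨n, a ⊗ₜ c, ?_⟩
        rw [Algebra.TensorProduct.tmul_pow, one_pow, Algebra.TensorProduct.tmul_mul_tmul, one_mul]
        exact congrArg (a ⊗ₜ[R₀] ·) hc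
      | add x y hx hy =>
        obtain ⟨n, c, hc⟩ := hx
        obtain ⟨m, c', hc'⟩ := hy
        refine ⟨n + m, ((1 : R) ⊗ₜ[R₀] J) ^ m * c + ((1 : R) ⊗ₜ[R₀] J) ^ n * c', ?_⟩
        have hJ' : πR ((1 : R) ⊗ₜ[R₀] J) = (1 : R) ⊗ₜ[R₀] π₀ J := rfl
        rw [map_add, map_mul, map_mul, map_pow, map_pow, hJ', ← hc, ← hc']
        ring
  have : Algebra.Smooth R₀ D₀ := inferInstance
  have hinj := Module.Flat.lTensor_preserves_injective_linearMap (M := D₀) N.subtype N.injective_subtype
  refine hinj ?_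
  rw [map_zero]
  have h1 : ∀ y : R ⊗[R₀] C₀, TensorProduct.comm R₀ R D₀ (πR y) =
      π₀.toLinearMap.rTensor R (TensorProduct.comm R₀ R C₀ y) := fun y => by
    induction y using TensorProduct.induction_on with
    | zero => simp
    | tmul a b => rfl
    | add x y hx hy => simp only [map_add, hx, hy]
  have h2 : π₀.toLinearMap.rTensor R t' = 0 := by
    rw [← h1]
    exact (congrArg (TensorProduct.comm R₀ R D₀) h0).trans (map_zero _)
  rw [← hz] at h2
  refine Eq.trans ?_ h2
  simp only [← LinearMap.comp_apply]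
  congr 1
  ext; simp

end Groth.Agent.Lib.EtSlices.Alg
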