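import Groth.Agent.Lib.EtSlices.Alg
import Mathlib.AlgebraicGeometry.Morphisms.Smooth
import Mathlib.AlgebraicGeometry.Morphisms.Etale
import Mathlib.AlgebraicGeometry.Morphisms.Immersion

/-!
# Étale multisections of a smooth morphism detect sections
-/

set_option autoImplicit false
universe u

open AlgebraicGeometry CategoryTheory

namespace Groth.Agent.Lib.EtSlices.Scheme

theorem isImmersion_specMap {C D : CommRingCat.{u}} (π : C ⟶ D) (h : Alg.IsLocClosed π.hom) :
    IsImmersion (Spec.map π) := by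
  obtain ⟨J, hJ, hsurj⟩ := h
  let L := CommRingCat.of (Localization.Away J)
  let l : L ⟶ D := CommRingCat.ofHom (IsLocalization.Away.lift J (g := π.hom) hJ)
  have hl : CommRingCat.ofHom (algebraMap C (Localization.Away J)) ≫ l = π :=
    CommRingCat.hom_ext (IsLocalization.Away.lift_comp J hJ)
  have hs : Function.Surjective l.hom := fun d => by
    obtain ⟨n, c, hc⟩ := hsurj d
    refine ⟨algebraMap C _ c * IsLocalization.Away.invSelf J ^ n, ?_⟩
    have h1 : l.hom (algebraMap C _ J) * l.hom (IsLocalization.Away.invSelf J) = 1 := by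
      rw [← map_mul, IsLocalization.Away.mul_invSelf, map_one]
    have h2 : ∀ x, l.hom (algebraMap C (Localization.Away J) x) = π.hom x :=
      fun x => ConcreteCategory.congr_hom hl x
    rw [map_mul, map_pow, h2, ← hc, ← h2 J, mul_comm _ d, mul_assoc, ← mul_pow, h1, one_pow, mul_one]
  have := IsClosedImmersion.spec_of_surjective l hs
  have : IsOpenImmersion (Spec.map (CommRingCat.ofHom (algebraMap C (Localization.Away J)))) :=
    IsOpenImmersion.of_isLocalization J
  rw [← hl, Spec.map_comp]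
  infer_instance

theorem eq_zero {X S : Scheme.{u}} (p : X ⟶ S) [Smooth p] (V : X.Opens) (t : Γ(X, V))
    (h : ∀ (Z : Scheme.{u}) (j : Z ⟶ X), IsImmersion j → Etale (j ≫ p) → j.app V t = 0) : t = 0 := by
  have hc : ∀ x : V, ∃ (U : S.Opens) (W : X.Opens), IsAffineOpen U ∧ IsAffineOpen W ∧ x.1 ∈ W ∧
      W ≤ V ∧ W ≤ p ⁻¹ᵁ U := fun x => by
    obtain ⟨U, hU, hxU, -⟩ := exists_isAffineOpen_mem_and_subset (X := S) (x := p x.1) (U := ⊤) trivial
    obtain ⟨W, hW, hxW, hWle⟩ :=
      exists_isAffineOpen_mem_and_subset (X := X) (x := x.1) (U := V ⊓ p ⁻¹ᵁ U) ⟨x.2, hxU⟩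
    exact ⟨U, W, hU, hW, hxW, fun y hy => (hWle hy).1, fun y hy => (hWle hy).2⟩
  choose U' W' hU' hW' hxW' hWV' hWU' using hc
  refine X.sheaf.eq_of_locally_eq' W' V (fun x => homOfLE (hWV' x))
    (fun y hy => TopologicalSpace.Opens.mem_iSup.2 ⟨⟨y, hy⟩, hxW' ⟨y, hy⟩⟩) t 0 fun x => ?_
  rw [map_zero]
  suffices key : ∀ (U : S.Opens) (W : X.Opens) (hU : IsAffineOpen U) (hW : IsAffineOpen W) (hWV : W ≤ V)
      (hWU : W ≤ p ⁻¹ᵁ U), X.presheaf.map (homOfLE hWV).op t = 0 from
    key _ _ (hU' x) (hW' x) (hWV' x) (hWU' x)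
  clear! x
  intro U W hU hW hWV hWU
  have hsm : (p.appLE U W hWU).hom.Smooth := p.smooth_appLE hU hW hWU
  algebraize [(p.appLE U W hWU).hom]
  show X.presheaf.map (homOfLE hWV).op t = 0
  refine Alg.eq_zero (R := Γ(S, U)) (C := Γ(X, W)) _ fun D _ _ π hD hπ => ?_
  let πc : Γ(X, W) ⟶ CommRingCat.of D := CommRingCat.ofHom π.toRingHom
  have := isImmersion_specMap πc hπ
  let j : Spec (CommRingCat.of D) ⟶ X := Spec.map πc ≫ hW.fromSpec
  have hj : j ≫ p = Spec.map (CommRingCat.ofHom (algebraMap Γ(S, U) D)) ≫ hU.fromSpec := by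
    simp only [j, Category.assoc, ← hU.SpecMap_appLE_fromSpec p hW hWU, ← Spec.map_comp_assoc]
    congr 2
    exact CommRingCat.hom_ext (RingHom.ext fun r => π.commutes r)
  have : Etale (Spec.map (CommRingCat.ofHom (algebraMap Γ(S, U) D))) :=
    (HasRingHomProperty.Spec_iff (P := @Etale)).2 (RingHom.etale_algebraMap.2 hD)
  have het : Etale (j ≫ p) := by rw [hj]; infer_instance
  have h0 := h _ j inferInstance het
  have hjW : (⊤ : (Spec (CommRingCat.of D)).Opens) ≤ j ⁻¹ᵁ W := fun y _ => hW.range_fromSpec.le ⟨_, rfl⟩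
  have h1 : j.appLE W ⊤ hjW (X.presheaf.map (homOfLE hWV).op t) = 0 := by
    have e : X.presheaf.map (homOfLE hWV).op ≫ j.appLE W ⊤ hjW =
        j.app V ≫ (Spec (CommRingCat.of D)).presheaf.map (homOfLE (hjW.trans (j.preimage_mono hWV))).op := by
      rw [Scheme.Hom.map_appLE]; rfl
    refine (ConcreteCategory.congr_hom e t).trans ?_
    rw [CommRingCat.comp_apply, h0, map_zero]
  have h2 : j.appLE W ⊤ hjW = πc ≫ (Scheme.ΓSpecIso _).inv := by
    rw [← Scheme.Hom.appLE_comp_appLE (Spec.map πc) hW.fromSpec W ⊤ ⊤ hW.fromSpec_preimage_self.ge le_top]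
    have e1 : hW.fromSpec.appLE W ⊤ hW.fromSpec_preimage_self.ge = (Scheme.ΓSpecIso Γ(X, W)).inv := by
      simp only [Scheme.Hom.appLE, hW.fromSpec_app_self, Category.assoc, ← Functor.map_comp]
      erw [CategoryTheory.Functor.map_id, Category.comp_id]
    rw [e1, Scheme.ΓSpecIso_inv_naturality]
    simp [Scheme.Hom.appLE]
  rw [h2] at h1
  exact (ConcreteCategory.bijective_of_isIso (Scheme.ΓSpecIso (CommRingCat.of D)).inv).1 (h1.trans (map_zero _).symm)

end Groth.Agent.Lib.EtSlices.Scheme
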